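/-
S2858, helper45's claim (N), step (0): there is an elementary abelian 2-subgroup of maximal
order of `S` that is not contained in `D` (else the subgroup generated by all of them is
normalized by both `P₁` (which normalizes `D`) and `P₂` (which normalizes `S`)).
-/
import Cfsg.Agent.Lib.Helper45.S3Amal.LemJ

set_option autoImplicit false

namespace Cfsg.Agent.Lib.Helper74.Amal

open Cfsg.Agent.Lib.Helper45.S3Amal

universe u

/-- a nontrivial finite 2-group contains an involution -/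
theorem exists_invol_of_ne_bot {G : Type*} [Group G] (S : Subgroup G) [Finite ↥S] (hS1 : S ≠ ⊥)
    (h2 : IsPGroup 2 ↥S) : ∃ x ∈ S, x ≠ 1 ∧ x * x = 1 := by
  obtain ⟨n, hn⟩ := h2.exists_card_eq
  have hn0 : n ≠ 0 := by
    rintro rfl
    apply hS1
    rw [pow_zero] at hn
    exact Subgroup.card_eq_one.mp hn
  have hdvd : 2 ∣ Nat.card ↥S := by rw [hn]; exact dvd_pow_self 2 hn0
  haveI : Fact (Nat.Prime 2) := ⟨Nat.prime_two⟩
  obtain ⟨x, hx⟩ := exists_prime_orderOf_dvd_card' 2 hdvd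
  refine ⟨x, x.2, ?_, ?_⟩
  · intro h
    have : x = 1 := Subtype.ext h
    rw [this, orderOf_one] at hx
    omega
  · have h1 : x ^ 2 = 1 := by rw [← hx]; exact pow_orderOf_eq_one x
    have h2' : ((x ^ 2 : ↥S) : G) = 1 := by rw [h1]; rfl
    rw [pow_two] at h2'
    exact h2'

/-- the cyclic group generated by an involution is elementary abelian -/
theorem elab_zpowers {G : Type*} [Group G] (x : G) (hx : x * x = 1) :
    Cfsg.IsElementaryAbelian 2 (Subgroup.zpowers x) := by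
  apply elab_mk
  · intro a ha b hb
    obtain ⟨i, rfl⟩ := Subgroup.mem_zpowers_iff.mp ha
    obtain ⟨j, rfl⟩ := Subgroup.mem_zpowers_iff.mp hb
    exact zpow_mul_comm x i j
  · intro a ha
    obtain ⟨i, rfl⟩ := Subgroup.mem_zpowers_iff.mp ha
    have : x ^ i * x ^ i = (x * x) ^ i := by
      rw [← zpow_add, ← two_mul, zpow_mul, zpow_two]
    rw [this, hx, one_zpow]

/-- **Step (0) of claim (N).** -/
theorem exists_maxElab_not_le {G : Type u} [Group G] (S D : Subgroup G) [Finite ↥S]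
    (hDS : D ≤ S) (P₁ P₂ : Subgroup G) (hD : ∀ h ∈ P₁, ∀ d ∈ D, h * d * h⁻¹ ∈ D)
    (hS : ∀ h ∈ P₂, ∀ s ∈ S, h * s * h⁻¹ ∈ S) (hS1 : S ≠ ⊥) (h2 : IsPGroup 2 ↥S)
    (hcore : ∀ N : Subgroup G, N ≤ S → (∀ h ∈ P₁, ∀ n ∈ N, h * n * h⁻¹ ∈ N) →
      (∀ h ∈ P₂, ∀ n ∈ N, h * n * h⁻¹ ∈ N) → N = ⊥) :
    ∃ A : Subgroup G, A ≤ S ∧ Cfsg.IsElementaryAbelian 2 A ∧
      (∀ B : Subgroup G, B ≤ S → Cfsg.IsElementaryAbelian 2 B → Nat.card B ≤ Nat.card A) ∧
      ¬ A ≤ D := by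
  classical
  by_contra hcon
  push Not at hcon
  -- the maximal order
  obtain ⟨m, ⟨A₀, hA₀S, hA₀el, hA₀m⟩, hmax⟩ : ∃ m, (∃ B : Subgroup G, B ≤ S ∧
      Cfsg.IsElementaryAbelian 2 B ∧ Nat.card B = m) ∧
      ∀ B : Subgroup G, B ≤ S → Cfsg.IsElementaryAbelian 2 B → Nat.card B ≤ m := by
    obtain ⟨cards, hcards⟩ : ∃ cards : Set ℕ, cards = {n | ∃ B : Subgroup G, B ≤ S ∧
        Cfsg.IsElementaryAbelian 2 B ∧ Nat.card B = n} := ⟨_, rfl⟩
    have hne : cards.Nonempty := by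
      rw [hcards]
      refine ⟨1, ⊥, bot_le, elab_mk ?_ ?_, Subgroup.card_bot⟩
      · intro x hx y hy
        rw [Subgroup.mem_bot] at hx hy
        rw [hx, hy]
      · intro x hx
        rw [Subgroup.mem_bot] at hx
        rw [hx, one_mul]
    have hbdd : BddAbove cards := by
      rw [hcards]
      refine ⟨Nat.card ↥S, ?_⟩
      rintro n ⟨B, hBS, -, rfl⟩
      exact Subgroup.card_le_of_le hBS
    have hmem := Nat.sSup_mem hne hbdd
    have hiff : ∀ n : ℕ, n ∈ cards ↔ ∃ B : Subgroup G, B ≤ S ∧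
        Cfsg.IsElementaryAbelian 2 B ∧ Nat.card B = n := by
      intro n; rw [hcards]; rfl
    exact ⟨sSup cards, (hiff _).mp hmem, fun B hBS hB =>
      le_csSup hbdd ((hiff _).mpr ⟨B, hBS, hB, rfl⟩)⟩
  obtain ⟨𝒜, h𝒜⟩ : ∃ 𝒜 : Set (Subgroup G), 𝒜 = {A | A ≤ S ∧ Cfsg.IsElementaryAbelian 2 A ∧
      Nat.card A = m} := ⟨_, rfl⟩
  have hmem𝒜 : ∀ A : Subgroup G, A ∈ 𝒜 ↔ A ≤ S ∧ Cfsg.IsElementaryAbelian 2 A ∧
      Nat.card A = m := by
    intro A; rw [h𝒜]; rfl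
  have h𝒜D : ∀ A ∈ 𝒜, A ≤ D := by
    intro A hA
    obtain ⟨h1, h2', h3⟩ := (hmem𝒜 A).mp hA
    exact hcon A h1 h2' (fun B hBS hB => by rw [h3]; exact hmax B hBS hB)
  have hconj : ∀ (g : G) (A : Subgroup G), A ∈ 𝒜 → A.map (MulAut.conj g).toMonoidHom ≤ S →
      A.map (MulAut.conj g).toMonoidHom ∈ 𝒜 := by
    intro g A hA hle
    obtain ⟨h1, h2', h3⟩ := (hmem𝒜 A).mp hA
    rw [hmem𝒜]
    refine ⟨hle, elab_map_conj h2' g, ?_⟩
    rw [Subgroup.card_map_of_injective (MulAut.conj g).injective]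
    exact h3
  have hNinv : ∀ g : G, (∀ A ∈ 𝒜, A.map (MulAut.conj g).toMonoidHom ≤ S) →
      ∀ n ∈ sSup 𝒜, g * n * g⁻¹ ∈ sSup 𝒜 := by
    intro g hg n hn
    have hle : sSup 𝒜 ≤ (sSup 𝒜).comap (MulAut.conj g).toMonoidHom := by
      apply sSup_le
      intro A hA a ha
      rw [Subgroup.mem_comap]
      have h1 : A.map (MulAut.conj g).toMonoidHom ≤ sSup 𝒜 := le_sSup (hconj g A hA (hg A hA))
      exact h1 (Subgroup.mem_map_of_mem _ ha)
    have := hle hn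
    rw [Subgroup.mem_comap] at this
    simpa [MulAut.conj_apply] using this
  have hND : sSup 𝒜 ≤ D := sSup_le h𝒜D
  have hbot : sSup 𝒜 = ⊥ := by
    apply hcore _ (hND.trans hDS)
    · intro h hh
      apply hNinv
      intro A hA
      refine le_trans ?_ hDS
      rintro _ ⟨a, ha, rfl⟩
      have := hD h hh a (h𝒜D A hA ha)
      simpa [MulAut.conj_apply] using this
    · intro h hh
      apply hNinv
      intro A hA
      rintro _ ⟨a, ha, rfl⟩
      have := hS h hh a (((hmem𝒜 A).mp hA).1 ha)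
      simpa [MulAut.conj_apply] using this
  have hA₀bot : A₀ = ⊥ := by
    have : A₀ ≤ sSup 𝒜 := le_sSup ((hmem𝒜 A₀).mpr ⟨hA₀S, hA₀el, hA₀m⟩)
    rw [hbot] at this
    exact le_bot_iff.mp this
  have hm1 : m = 1 := by rw [← hA₀m, hA₀bot]; exact Subgroup.card_bot
  obtain ⟨x, hxS, hx1, hx2⟩ := exists_invol_of_ne_bot S hS1 h2
  have hzS : Subgroup.zpowers x ≤ S := by
    rw [Subgroup.zpowers_le]; exact hxS
  have hle := hmax _ hzS (elab_zpowers x hx2)
  rw [hm1] at hle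
  haveI : Finite ↥(Subgroup.zpowers x) :=
    Finite.of_injective (Subgroup.inclusion hzS) (Subgroup.inclusion_injective hzS)
  have hsub := Finite.card_le_one_iff_subsingleton.mp hle
  have : (⟨x, Subgroup.mem_zpowers x⟩ : ↥(Subgroup.zpowers x)) = ⟨1, Subgroup.one_mem _⟩ :=
    Subsingleton.elim _ _
  exact hx1 (Subtype.ext_iff.mp this)

end Cfsg.Agent.Lib.Helper74.Amal
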