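/-
S2858, helper45's claim (N), steps (2)-(3) as pure group theory on subgroups of an arbitrary
group `G`:
* `pairEA_sq`, `pairEA` : (I1) for a pair `Di, Dj` of subgroups of index 2 of `S`;
* `pairI2` : (I2) `M^y ⊓ M^y' ≤ M^h` for `M = D ⊓ Dj` and two different Sylow subgroups;
* `step3` : step (3), from (EA) for `(D₂, D₃)` and (I2) for `(D₁, D₂)`, `(D₁, D₃)`;
* `lemI` : the three combined.
-/
import Cfsg.Agent.Lib.Helper71.Sym.Defs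

set_option autoImplicit false

namespace Cfsg.Agent.Lib.Helper74.Amal

open Cfsg.Agent.Lib.Helper71.Sym

universe u

variable {G : Type u} [Group G]

theorem finite_of_le' {A B : Subgroup G} [Finite ↥B] (h : A ≤ B) : Finite ↥A :=
  Finite.of_injective (Subgroup.inclusion h) (Subgroup.inclusion_injective h)

/-- two elements outside a subgroup of index 2 multiply into it -/
theorem mul_mem_of_card_two (S D : Subgroup G) [Finite ↥S] (hDS : D ≤ S)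
    (hc : Nat.card ↥S = 2 * Nat.card ↥D) {s t : G} (hs : s ∈ S) (ht : t ∈ S) (hsD : s ∉ D)
    (htD : t ∉ D) : s * t ∈ D := by
  haveI : Finite ↥D := finite_of_le' hDS
  have hidx : (D.subgroupOf S).index = 2 := by
    have h1 := Subgroup.index_mul_card (D.subgroupOf S)
    have h2 : Nat.card ↥(D.subgroupOf S) = Nat.card ↥D :=
      Nat.card_congr (Subgroup.subgroupOfEquivOfLe hDS).toEquiv
    rw [h2, hc] at h1
    have hpos : 0 < Nat.card ↥D := Nat.card_pos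
    exact Nat.eq_of_mul_eq_mul_right hpos h1
  have h3 := (Subgroup.mul_mem_iff_of_index_two hidx (a := ⟨s, hs⟩) (b := ⟨t, ht⟩)).mpr
    (by simp [Subgroup.mem_subgroupOf, hsD, htD])
  simpa [Subgroup.mem_subgroupOf] using h3

theorem inv_not_mem {D : Subgroup G} {s : G} (hs : s ∉ D) : s⁻¹ ∉ D :=
  fun h => hs (by simpa using D.inv_mem h)

/-- a subgroup of index 2 is normal -/
theorem conj_mem_of_card_two (S D : Subgroup G) [Finite ↥S] (hDS : D ≤ S)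
    (hc : Nat.card ↥S = 2 * Nat.card ↥D) {s d : G} (hs : s ∈ S) (hd : d ∈ D) :
    s * d * s⁻¹ ∈ D := by
  by_cases hsD : s ∈ D
  · exact D.mul_mem (D.mul_mem hsD hd) (D.inv_mem hsD)
  · have h1 : d * s⁻¹ ∉ D := by
      intro h
      have := D.mul_mem (D.inv_mem hd) h
      rw [inv_mul_cancel_left] at this
      exact inv_not_mem hsD this
    have := mul_mem_of_card_two S D hDS hc hs (S.mul_mem (hDS hd) (S.inv_mem hs)) hsD h1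
    rwa [← mul_assoc] at this

theorem exists_mem_not_mem_of_card (Di Dj : Subgroup G) [Finite ↥Di]
    (hcard : Nat.card ↥Di ≤ Nat.card ↥Dj) (hne : Di ≠ Dj) : ∃ u ∈ Dj, u ∉ Di := by
  by_contra hcon
  push Not at hcon
  exact hne (Subgroup.eq_of_le_of_card_ge hcon hcard).symm

/-- a subgroup between `A` and `L` with `|L| = 3 |A|` is `A` or `L` -/
theorem sandwich_three (A C L : Subgroup G) [Finite ↥L] (hAC : A ≤ C) (hCL : C ≤ L)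
    (hcard : Nat.card ↥L = 3 * Nat.card ↥A) : C = A ∨ C = L := by
  haveI : Finite ↥C := finite_of_le' hCL
  haveI : Finite ↥A := finite_of_le' (hAC.trans hCL)
  obtain ⟨k, hk⟩ := Subgroup.card_dvd_of_le hAC
  obtain ⟨m, hm⟩ := Subgroup.card_dvd_of_le hCL
  have hpos : 0 < Nat.card ↥A := Nat.card_pos
  have h3 : k * m = 3 := by
    have : Nat.card ↥A * (k * m) = Nat.card ↥A * 3 := by
      rw [← mul_assoc, ← hk, ← hm, hcard, mul_comm]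
    exact Nat.eq_of_mul_eq_mul_left hpos this
  have hk3 : k ∣ 3 := ⟨m, h3.symm⟩
  rcases (Nat.dvd_prime Nat.prime_three).mp hk3 with h | h
  · left
    rw [h, mul_one] at hk
    exact (Subgroup.eq_of_le_of_card_ge hAC (le_of_eq hk)).symm
  · right
    refine Subgroup.eq_of_le_of_card_ge hCL ?_
    rw [hcard, hk, h, mul_comm]

/-- **(I1)**: an element of `S` outside `Di ∪ Dj` has its square outside `K`. -/
theorem pairEA_sq (S Di Dj K : Subgroup G) [Finite ↥S] (hDiS : Di ≤ S) (hDjS : Dj ≤ S)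
    (hci : Nat.card ↥S = 2 * Nat.card ↥Di) (hcj : Nat.card ↥S = 2 * Nat.card ↥Dj)
    (hne : Di ≠ Dj) (hKn : ∀ s ∈ S, ∀ k ∈ K, s * k * s⁻¹ ∈ K)
    (hsqi : ∀ d ∈ Di, d * d ∈ K) (hsqj : ∀ d ∈ Dj, d * d ∈ K)
    (hcomj : ∀ d ∈ Dj, ∀ e ∈ Dj, d * e * d⁻¹ * e⁻¹ ∈ K)
    (hC : ∀ g ∈ S, (∀ d ∈ Di, g * d * g⁻¹ * d⁻¹ ∈ K) → g ∈ Di) :
    ∀ g ∈ S, g ∉ Di → g ∉ Dj → g * g ∉ K := by
  intro g hgS hgi hgj hgK
  haveI : Finite ↥Di := finite_of_le' hDiS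
  obtain ⟨u, huj, hui⟩ := exists_mem_not_mem_of_card Di Dj (by omega) hne
  have huS : u ∈ S := hDjS huj
  obtain ⟨v, hv⟩ : ∃ v : G, v = g * u⁻¹ := ⟨_, rfl⟩
  have hvi : v ∈ Di := by
    rw [hv]
    exact mul_mem_of_card_two S Di hDiS hci hgS (S.inv_mem huS) hgi (inv_not_mem hui)
  have hvS : v ∈ S := hDiS hvi
  have hg : g = v * u := by rw [hv]; group
  have hvj : v ∉ Dj := by
    intro h
    exact hgj (by rw [hg]; exact Dj.mul_mem h huj)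
  -- `[v, u] ∈ K`
  have hvu : v * u * v⁻¹ * u⁻¹ ∈ K := by
    have h1 : v * u * (v * u) ∈ K := by rw [← hg]; exact hgK
    have h2 : u⁻¹ * (v * v)⁻¹ * u⁻¹⁻¹ ∈ K := hKn _ (S.inv_mem huS) _ (K.inv_mem (hsqi v hvi))
    have h3 : (u * u)⁻¹ ∈ K := K.inv_mem (hsqj u huj)
    have e : v * u * v⁻¹ * u⁻¹ = v * u * (v * u) * (u⁻¹ * (v * v)⁻¹ * u⁻¹⁻¹) * (u * u)⁻¹ := by
      group
    rw [e]
    exact K.mul_mem (K.mul_mem h1 h2) h3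
  have huv : u * v * u⁻¹ * v⁻¹ ∈ K := by
    have e : u * v * u⁻¹ * v⁻¹ = (v * u * v⁻¹ * u⁻¹)⁻¹ := by group
    rw [e]; exact K.inv_mem hvu
  apply hui
  apply hC u huS
  intro d hd
  by_cases hdj : d ∈ Dj
  · exact hcomj u huj d hdj
  · obtain ⟨m, hm⟩ : ∃ m : G, m = v⁻¹ * d := ⟨_, rfl⟩
    have hmj : m ∈ Dj := by
      rw [hm]
      exact mul_mem_of_card_two S Dj hDjS hcj (S.inv_mem hvS) (hDiS hd) (inv_not_mem hvj) hdj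
    have hd' : d = v * m := by rw [hm]; group
    have h1 : v * (u * m * u⁻¹ * m⁻¹) * v⁻¹ ∈ K := hKn v hvS _ (hcomj u huj m hmj)
    have e : u * d * u⁻¹ * d⁻¹ = (u * v * u⁻¹ * v⁻¹) * (v * (u * m * u⁻¹ * m⁻¹) * v⁻¹) := by
      rw [hd']; group
    rw [e]
    exact K.mul_mem huv h1

/-- **(EA)**: every subgroup of exponent 2 of `S` lies in `Di` or in `Dj`. -/
theorem pairEA (S Di Dj K : Subgroup G) [Finite ↥S] (hDiS : Di ≤ S) (hDjS : Dj ≤ S)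
    (hci : Nat.card ↥S = 2 * Nat.card ↥Di) (hcj : Nat.card ↥S = 2 * Nat.card ↥Dj)
    (hne : Di ≠ Dj) (hKn : ∀ s ∈ S, ∀ k ∈ K, s * k * s⁻¹ ∈ K)
    (hsqi : ∀ d ∈ Di, d * d ∈ K) (hsqj : ∀ d ∈ Dj, d * d ∈ K)
    (hcomj : ∀ d ∈ Dj, ∀ e ∈ Dj, d * e * d⁻¹ * e⁻¹ ∈ K)
    (hC : ∀ g ∈ S, (∀ d ∈ Di, g * d * g⁻¹ * d⁻¹ ∈ K) → g ∈ Di)
    (B : Subgroup G) (hBS : B ≤ S) (hB : ∀ b ∈ B, b * b = 1) : B ≤ Di ∨ B ≤ Dj := by
  have key := pairEA_sq S Di Dj K hDiS hDjS hci hcj hne hKn hsqi hsqj hcomj hC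
  by_contra hcon
  push Not at hcon
  obtain ⟨hcon1, hcon2⟩ := hcon
  obtain ⟨b₁, hb₁B, hb₁i⟩ := SetLike.not_le_iff_exists.mp hcon1
  obtain ⟨b₂, hb₂B, hb₂j⟩ := SetLike.not_le_iff_exists.mp hcon2
  have hone : ∀ b ∈ B, b * b ∈ K := fun b hb => by rw [hB b hb]; exact K.one_mem
  by_cases h1 : b₁ ∈ Dj
  · by_cases h2 : b₂ ∈ Di
    · refine key (b₁ * b₂) (hBS (B.mul_mem hb₁B hb₂B)) ?_ ?_ (hone _ (B.mul_mem hb₁B hb₂B))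
      · intro h
        have := Di.mul_mem h (Di.inv_mem h2)
        rw [mul_inv_cancel_right] at this
        exact hb₁i this
      · intro h
        have := Dj.mul_mem (Dj.inv_mem h1) h
        rw [inv_mul_cancel_left] at this
        exact hb₂j this
    · exact key b₂ (hBS hb₂B) h2 hb₂j (hone _ hb₂B)
  · exact key b₁ (hBS hb₁B) hb₁i h1 (hone _ hb₁B)

/-- **(I2)**: for `M = D ⊓ Dj` and two different conjugates `S^y ≠ S^y'` of `S` in `L`,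
`M^y ⊓ M^y' ≤ M^h` for every `h ∈ L`. -/
theorem pairI2 (L S D Dj K : Subgroup G) [Finite ↥L] (hSL : S ≤ L)
    (hLS : Nat.card ↥L = 3 * Nat.card ↥S) (hDS : D ≤ S) (hDjS : Dj ≤ S)
    (hc : Nat.card ↥S = 2 * Nat.card ↥D) (hcj : Nat.card ↥S = 2 * Nat.card ↥Dj) (hne : D ≠ Dj)
    (hKn : ∀ l ∈ L, ∀ k ∈ K, l * k * l⁻¹ ∈ K) (hKD : K ≤ D ⊓ Dj)
    (hcomD : ∀ d ∈ D, ∀ e ∈ D, d * e * d⁻¹ * e⁻¹ ∈ K)
    (hcomDj : ∀ d ∈ Dj, ∀ e ∈ Dj, d * e * d⁻¹ * e⁻¹ ∈ K) :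
    ∀ y ∈ L, ∀ y' ∈ L, ∀ h ∈ L, cj y S ≠ cj y' S →
      cj y (D ⊓ Dj) ⊓ cj y' (D ⊓ Dj) ≤ cj h (D ⊓ Dj) := by
  intro y hy y' hy' h hh hyy' x hx
  haveI : Finite ↥S := finite_of_le' hSL
  haveI : Finite ↥D := finite_of_le' hDS
  have hx1 : x ∈ cj y (D ⊓ Dj) := hx.1
  have hx2 : x ∈ cj y' (D ⊓ Dj) := hx.2
  rw [mem_cj] at hx1 hx2 ⊢
  -- Step A: `M` is central in `S` modulo `K`
  have hA : ∀ m ∈ D ⊓ Dj, ∀ s ∈ S, s * m * s⁻¹ * m⁻¹ ∈ K := by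
    intro m hm s hs
    by_cases hsD : s ∈ D
    · exact hcomD s hsD m hm.1
    · obtain ⟨u, huj, hui⟩ := exists_mem_not_mem_of_card D Dj (by omega) hne
      have huS : u ∈ S := hDjS huj
      obtain ⟨d, hd⟩ : ∃ d : G, d = s * u⁻¹ := ⟨_, rfl⟩
      have hdD : d ∈ D := by
        rw [hd]
        exact mul_mem_of_card_two S D hDS hc hs (S.inv_mem huS) hsD (inv_not_mem hui)
      have hs' : s = d * u := by rw [hd]; group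
      have h1 : d * (u * m * u⁻¹ * m⁻¹) * d⁻¹ ∈ K :=
        hKn d (hSL (hDS hdD)) _ (hcomDj u huj m hm.2)
      have h2 : d * m * d⁻¹ * m⁻¹ ∈ K := hcomD d hdD m hm.1
      have e : s * m * s⁻¹ * m⁻¹ = (d * (u * m * u⁻¹ * m⁻¹) * d⁻¹) * (d * m * d⁻¹ * m⁻¹) := by
        rw [hs']; group
      rw [e]
      exact K.mul_mem h1 h2
  -- Step B: the subgroup of `L` centralizing `x` modulo `K`
  obtain ⟨C, hC⟩ : ∃ C : Subgroup G, ∀ l : G, l ∈ C ↔ l ∈ L ∧ l * x * l⁻¹ * x⁻¹ ∈ K := by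
    refine ⟨{ carrier := {l | l ∈ L ∧ l * x * l⁻¹ * x⁻¹ ∈ K}
              mul_mem' := ?_
              one_mem' := ?_
              inv_mem' := ?_ }, fun l => Iff.rfl⟩
    · rintro a b ⟨haL, ha⟩ ⟨hbL, hb⟩
      refine ⟨L.mul_mem haL hbL, ?_⟩
      have h1 : a * (b * x * b⁻¹ * x⁻¹) * a⁻¹ ∈ K := hKn a haL _ hb
      have e : a * b * x * (a * b)⁻¹ * x⁻¹ = (a * (b * x * b⁻¹ * x⁻¹) * a⁻¹) * (a * x * a⁻¹ * x⁻¹) := by
        group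
      rw [e]
      exact K.mul_mem h1 ha
    · refine ⟨L.one_mem, ?_⟩
      have e : (1 : G) * x * 1⁻¹ * x⁻¹ = 1 := by group
      rw [e]
      exact K.one_mem
    · rintro a ⟨haL, ha⟩
      refine ⟨L.inv_mem haL, ?_⟩
      have h1 : a⁻¹ * (a * x * a⁻¹ * x⁻¹)⁻¹ * a⁻¹⁻¹ ∈ K := hKn _ (L.inv_mem haL) _ (K.inv_mem ha)
      have e : a⁻¹ * x * a⁻¹⁻¹ * x⁻¹ = a⁻¹ * (a * x * a⁻¹ * x⁻¹)⁻¹ * a⁻¹⁻¹ := by group
      rw [e]
      exact h1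
  have hCL : C ≤ L := fun l hl => ((hC l).mp hl).1
  have hcjC : ∀ z ∈ L, z⁻¹ * x * z ∈ D ⊓ Dj → cj z S ≤ C := by
    intro z hz hzx l hl
    rw [mem_cj] at hl
    rw [hC]
    have hlL : l ∈ L := by
      have := L.mul_mem (L.mul_mem hz (hSL hl)) (L.inv_mem hz)
      simpa [mul_assoc] using this
    refine ⟨hlL, ?_⟩
    have h1 := hA _ hzx _ hl
    have h2 := hKn z hz _ h1
    have e : l * x * l⁻¹ * x⁻¹ =
        z * (z⁻¹ * l * z * (z⁻¹ * x * z) * (z⁻¹ * l * z)⁻¹ * (z⁻¹ * x * z)⁻¹) * z⁻¹ := by group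
    rw [e]
    exact h2
  have hCtop : C = L := by
    have hcard : Nat.card ↥L = 3 * Nat.card ↥(cj y S) := by rw [card_cj]; exact hLS
    rcases sandwich_three (cj y S) C L (hcjC y hy hx1) hCL hcard with h1 | h1
    · exfalso
      have h2 : cj y' S ≤ cj y S := by rw [← h1]; exact hcjC y' hy' hx2
      haveI : Finite ↥(cj y S) := finite_of_le' ((hcjC y hy hx1).trans hCL)
      apply hyy'
      exact (Subgroup.eq_of_le_of_card_ge h2 (by rw [card_cj, card_cj])).symm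
    · exact h1
  -- Step C
  have hall : ∀ l ∈ L, l * x * l⁻¹ * x⁻¹ ∈ K := by
    intro l hl
    have : l ∈ C := by rw [hCtop]; exact hl
    exact ((hC l).mp this).2
  have h1 := hall (y * h⁻¹) (L.mul_mem hy (L.inv_mem hh))
  have h2 : y⁻¹ * (y * h⁻¹ * x * (y * h⁻¹)⁻¹ * x⁻¹) * y⁻¹⁻¹ ∈ K := hKn _ (L.inv_mem hy) _ h1
  have e : h⁻¹ * x * h = (y⁻¹ * (y * h⁻¹ * x * (y * h⁻¹)⁻¹ * x⁻¹) * y⁻¹⁻¹) * (y⁻¹ * x * y) := by
    group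
  rw [e]
  exact (D ⊓ Dj).mul_mem (hKD h2) hx1

/-- In `L` with `|L| = 3|S|` and `S` not normal: an element of `L` normalizing `S` lies in `S`. -/
theorem mem_of_cj_eq (L S : Subgroup G) [Finite ↥L] (hSL : S ≤ L)
    (hLS : Nat.card ↥L = 3 * Nat.card ↥S) (hSnn : ∃ l ∈ L, ∃ s ∈ S, l * s * l⁻¹ ∉ S)
    {n : G} (hn : n ∈ L) (hnS : cj n S = S) : n ∈ S := by
  have hSN : S ≤ L ⊓ Subgroup.normalizer (S : Set G) :=
    le_inf hSL Subgroup.le_normalizer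
  rcases sandwich_three S (L ⊓ Subgroup.normalizer (S : Set G)) L hSN inf_le_left hLS with h | h
  · have hnN : n ∈ Subgroup.normalizer (S : Set G) := by
      rw [Subgroup.mem_normalizer_iff]
      intro g
      constructor
      · intro hg
        have := conj_mem_cj (g := n) hg
        rwa [hnS] at this
      · intro hg
        rw [← hnS, mem_cj] at hg
        simpa [mul_assoc] using hg
    have : n ∈ L ⊓ Subgroup.normalizer (S : Set G) := ⟨hn, hnN⟩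
    rw [h] at this
    exact this
  · exfalso
    obtain ⟨l, hl, s, hs, hls⟩ := hSnn
    have : l ∈ L ⊓ Subgroup.normalizer (S : Set G) := by rw [h]; exact hl
    exact hls ((Subgroup.mem_normalizer_iff.mp this.2 s).mp hs)

/-- equal conjugates of `S` give equal conjugates of an `S`-invariant subgroup -/
theorem cj_eq_of_cj_eq (L S M : Subgroup G) [Finite ↥L] (hSL : S ≤ L)
    (hLS : Nat.card ↥L = 3 * Nat.card ↥S) (hSnn : ∃ l ∈ L, ∃ s ∈ S, l * s * l⁻¹ ∉ S)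
    (hMn : ∀ s ∈ S, ∀ m ∈ M, s * m * s⁻¹ ∈ M) {a b : G} (ha : a ∈ L) (hb : b ∈ L)
    (hab : cj a S = cj b S) : cj a M ≤ cj b M := by
  have h1 : cj (b⁻¹ * a) S = S := by
    rw [cj_mul, hab, ← cj_mul, inv_mul_cancel, cj_one]
  have hn : b⁻¹ * a ∈ S := mem_of_cj_eq L S hSL hLS hSnn (L.mul_mem (L.inv_mem hb) ha) h1
  intro x hx
  rw [mem_cj] at hx ⊢
  have := hMn _ hn _ hx
  have e : b⁻¹ * a * (a⁻¹ * x * a) * (b⁻¹ * a)⁻¹ = b⁻¹ * x * b := by group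
  rwa [e] at this

/-- a third Sylow subgroup -/
theorem exists_third (L S : Subgroup G) [Finite ↥L] (hSL : S ≤ L)
    (hLS : Nat.card ↥L = 3 * Nat.card ↥S) (hSnn : ∃ l ∈ L, ∃ s ∈ S, l * s * l⁻¹ ∉ S)
    {a b : G} (ha : a ∈ L) (hb : b ∈ L) :
    ∃ c ∈ L, cj c S ≠ cj a S ∧ cj c S ≠ cj b S := by
  by_contra hcon
  push Not at hcon
  haveI : Finite ↥S := finite_of_le' hSL
  have hsub : (L : Set G) ⊆ (fun s => a * s) '' (S : Set G) ∪ (fun s => b * s) '' (S : Set G) := by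
    intro c hc
    by_cases h : cj c S = cj a S
    · left
      have h1 : cj (a⁻¹ * c) S = S := by
        rw [cj_mul, h, ← cj_mul, inv_mul_cancel, cj_one]
      have hn : a⁻¹ * c ∈ S :=
        mem_of_cj_eq L S hSL hLS hSnn (L.mul_mem (L.inv_mem ha) hc) h1
      exact ⟨a⁻¹ * c, hn, by simp⟩
    · right
      have h' := hcon c hc h
      have h1 : cj (b⁻¹ * c) S = S := by
        rw [cj_mul, h', ← cj_mul, inv_mul_cancel, cj_one]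
      have hn : b⁻¹ * c ∈ S :=
        mem_of_cj_eq L S hSL hLS hSnn (L.mul_mem (L.inv_mem hb) hc) h1
      exact ⟨b⁻¹ * c, hn, by simp⟩
  have hSfin : (S : Set G).Finite := Set.toFinite _
  have e1 : Nat.card ↥L = Set.ncard (L : Set G) := Nat.card_coe_set_eq _
  have e2 : Nat.card ↥S = Set.ncard (S : Set G) := Nat.card_coe_set_eq _
  have hpos : 0 < Nat.card ↥S := Nat.card_pos
  have hle : Set.ncard (L : Set G) ≤ Set.ncard (S : Set G) + Set.ncard (S : Set G) := by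
    calc Set.ncard (L : Set G)
        ≤ Set.ncard ((fun s => a * s) '' (S : Set G) ∪ (fun s => b * s) '' (S : Set G)) :=
          Set.ncard_le_ncard hsub ((hSfin.image _).union (hSfin.image _))
      _ ≤ Set.ncard ((fun s => a * s) '' (S : Set G))
            + Set.ncard ((fun s => b * s) '' (S : Set G)) := Set.ncard_union_le _ _
      _ ≤ Set.ncard (S : Set G) + Set.ncard (S : Set G) :=
          Nat.add_le_add (Set.ncard_image_le hSfin) (Set.ncard_image_le hSfin)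
  omega

/-- **Step (3)** (K-free). -/
theorem step3 (L S D₁ D₂ D₃ : Subgroup G) [Finite ↥L] (hSL : S ≤ L)
    (hLS : Nat.card ↥L = 3 * Nat.card ↥S) (hSnn : ∃ l ∈ L, ∃ s ∈ S, l * s * l⁻¹ ∉ S)
    (hD₁S : D₁ ≤ S) (hD₁n : ∀ l ∈ L, ∀ d ∈ D₁, l * d * l⁻¹ ∈ D₁)
    (hD₂n : ∀ s ∈ S, ∀ d ∈ D₂, s * d * s⁻¹ ∈ D₂)
    (hEA : ∀ B : Subgroup G, B ≤ S → (∀ b ∈ B, b * b = 1) → B ≤ D₂ ∨ B ≤ D₃)
    (hI2 : ∀ y ∈ L, ∀ y' ∈ L, ∀ h ∈ L, cj y S ≠ cj y' S →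
      cj y (D₁ ⊓ D₂) ⊓ cj y' (D₁ ⊓ D₂) ≤ cj h (D₁ ⊓ D₂))
    (hI3 : ∀ y ∈ L, ∀ y' ∈ L, ∀ h ∈ L, cj y S ≠ cj y' S →
      cj y (D₁ ⊓ D₃) ⊓ cj y' (D₁ ⊓ D₃) ≤ cj h (D₁ ⊓ D₃))
    (B : Subgroup G) (hBD : B ≤ D₁) (hB : ∀ b ∈ B, b * b = 1) :
    (∀ h ∈ L, B ≤ cj h (D₁ ⊓ D₂)) ∨ (∀ h ∈ L, B ≤ cj h (D₁ ⊓ D₃)) := by
  -- Step 1
  have h1 : ∀ h ∈ L, B ≤ cj h (D₁ ⊓ D₂) ∨ B ≤ cj h (D₁ ⊓ D₃) := by
    intro h hh
    have hB1 : cj h⁻¹ B ≤ D₁ := by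
      intro x hx
      rw [mem_cj] at hx
      have := hD₁n _ (L.inv_mem hh) _ (hBD hx)
      simpa [mul_assoc] using this
    have hBsq : ∀ b ∈ cj h⁻¹ B, b * b = 1 := by
      intro b hb
      rw [mem_cj] at hb
      have := hB _ hb
      have e : h⁻¹⁻¹ * b * h⁻¹ * (h⁻¹⁻¹ * b * h⁻¹) = h⁻¹⁻¹ * (b * b) * h⁻¹ := by group
      rw [e] at this
      have e2 : b * b = h⁻¹ * (h⁻¹⁻¹ * (b * b) * h⁻¹) * h := by group
      rw [e2, this]; group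
    have hBle : B ≤ cj h D₁ := by
      have := (cj_le_iff h⁻¹).mp hB1
      rwa [inv_inv] at this
    rcases hEA _ (hB1.trans hD₁S) hBsq with h2 | h2
    · left
      have := (cj_le_iff h⁻¹).mp h2
      rw [inv_inv] at this
      rw [cj_inf]
      exact le_inf hBle this
    · right
      have := (cj_le_iff h⁻¹).mp h2
      rw [inv_inv] at this
      rw [cj_inf]
      exact le_inf hBle this
  by_contra hcon
  push Not at hcon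
  obtain ⟨⟨h₀, hh₀, hn₀⟩, ⟨h₁, hh₁, hn₁⟩⟩ := hcon
  have hB₀ : B ≤ cj h₀ (D₁ ⊓ D₃) := (h1 h₀ hh₀).resolve_left hn₀
  have hB₁ : B ≤ cj h₁ (D₁ ⊓ D₂) := (h1 h₁ hh₁).resolve_right hn₁
  have hM₂n : ∀ s ∈ S, ∀ m ∈ D₁ ⊓ D₂, s * m * s⁻¹ ∈ D₁ ⊓ D₂ :=
    fun s hs m hm => ⟨hD₁n s (hSL hs) m hm.1, hD₂n s hs m hm.2⟩
  have hne : cj h₀ S ≠ cj h₁ S := by
    intro h
    exact hn₀ (hB₁.trans (cj_eq_of_cj_eq L S _ hSL hLS hSnn hM₂n hh₁ hh₀ h.symm))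
  obtain ⟨h₂, hh₂, hne₀, hne₁⟩ := exists_third L S hSL hLS hSnn hh₀ hh₁
  rcases h1 h₂ hh₂ with h | h
  · exact hn₀ ((le_inf hB₁ h).trans (hI2 h₁ hh₁ h₂ hh₂ h₀ hh₀ (Ne.symm hne₁)))
  · exact hn₁ ((le_inf hB₀ h).trans (hI3 h₀ hh₀ h₂ hh₂ h₁ hh₁ (Ne.symm hne₀)))

/-- **Lemma I** = steps (2)-(3) of claim (N), from the `K`-data of the three pairs. -/
theorem lemI (L S D₁ D₂ D₃ K₁₂ K₁₃ K₂₃ : Subgroup G) [Finite ↥L] (hSL : S ≤ L)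
    (hLS : Nat.card ↥L = 3 * Nat.card ↥S) (hSnn : ∃ l ∈ L, ∃ s ∈ S, l * s * l⁻¹ ∉ S)
    (hD₁S : D₁ ≤ S) (hD₂S : D₂ ≤ S) (hD₃S : D₃ ≤ S)
    (hc₁ : Nat.card ↥S = 2 * Nat.card ↥D₁) (hc₂ : Nat.card ↥S = 2 * Nat.card ↥D₂)
    (hc₃ : Nat.card ↥S = 2 * Nat.card ↥D₃)
    (h₁₂ : D₁ ≠ D₂) (h₁₃ : D₁ ≠ D₃) (h₂₃ : D₂ ≠ D₃)
    (hD₁n : ∀ l ∈ L, ∀ d ∈ D₁, l * d * l⁻¹ ∈ D₁)
    -- the pair (1,2)
    (hK₁₂n : ∀ l ∈ L, ∀ k ∈ K₁₂, l * k * l⁻¹ ∈ K₁₂) (hK₁₂ : K₁₂ ≤ D₁ ⊓ D₂)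
    (hcom₁₂ : ∀ d ∈ D₁, ∀ e ∈ D₁, d * e * d⁻¹ * e⁻¹ ∈ K₁₂)
    (hcom₁₂' : ∀ d ∈ D₂, ∀ e ∈ D₂, d * e * d⁻¹ * e⁻¹ ∈ K₁₂)
    -- the pair (1,3)
    (hK₁₃n : ∀ l ∈ L, ∀ k ∈ K₁₃, l * k * l⁻¹ ∈ K₁₃) (hK₁₃ : K₁₃ ≤ D₁ ⊓ D₃)
    (hcom₁₃ : ∀ d ∈ D₁, ∀ e ∈ D₁, d * e * d⁻¹ * e⁻¹ ∈ K₁₃)
    (hcom₁₃' : ∀ d ∈ D₃, ∀ e ∈ D₃, d * e * d⁻¹ * e⁻¹ ∈ K₁₃)
    -- the pair (2,3)
    (hK₂₃n : ∀ s ∈ S, ∀ k ∈ K₂₃, s * k * s⁻¹ ∈ K₂₃)
    (hsq₂₃ : ∀ d ∈ D₂, d * d ∈ K₂₃) (hsq₂₃' : ∀ d ∈ D₃, d * d ∈ K₂₃)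
    (hcom₂₃' : ∀ d ∈ D₃, ∀ e ∈ D₃, d * e * d⁻¹ * e⁻¹ ∈ K₂₃)
    (hC₂₃ : ∀ g ∈ S, (∀ d ∈ D₂, g * d * g⁻¹ * d⁻¹ ∈ K₂₃) → g ∈ D₂)
    (B : Subgroup G) (hBD : B ≤ D₁) (hB : ∀ b ∈ B, b * b = 1) :
    (∀ h ∈ L, B ≤ cj h (D₁ ⊓ D₂)) ∨ (∀ h ∈ L, B ≤ cj h (D₁ ⊓ D₃)) := by
  haveI : Finite ↥S := finite_of_le' hSL
  exact step3 L S D₁ D₂ D₃ hSL hLS hSnn hD₁S hD₁n
    (fun s hs d hd => conj_mem_of_card_two S D₂ hD₂S hc₂ hs hd)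
    (fun B hBS hB => pairEA S D₂ D₃ K₂₃ hD₂S hD₃S hc₂ hc₃ h₂₃ hK₂₃n hsq₂₃ hsq₂₃' hcom₂₃' hC₂₃
      B hBS hB)
    (pairI2 L S D₁ D₂ K₁₂ hSL hLS hD₁S hD₂S hc₁ hc₂ h₁₂ hK₁₂n hK₁₂ hcom₁₂ hcom₁₂')
    (pairI2 L S D₁ D₃ K₁₃ hSL hLS hD₁S hD₃S hc₁ hc₃ h₁₃ hK₁₃n hK₁₃ hcom₁₃ hcom₁₃')
    B hBD hB

end Cfsg.Agent.Lib.Helper74.Amal
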